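import Mathlib

/-! # Rank three groups with a Frobenius suborbit: definitions

`Pre` is the group-theoretic situation (the graph `adj` of the Frobenius suborbit, the Frobenius
kernels `K a` of the point stabilizers); `Setup` adds the numerical parameters. -/

set_option autoImplicit false

namespace CfsgLib.R3F

open MulAction

open Classical in
/-- number of points with property `p` -/
noncomputable def cnt {X : Type*} [Fintype X] (p : X → Prop) : ℕ := (Finset.univ.filter p).card

section cnt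
variable {X : Type*} [Fintype X]

theorem cnt_eq (p : X → Prop) [DecidablePred p] : cnt p = (Finset.univ.filter p).card := by
  unfold cnt; congr

theorem cnt_eq_natCard (p : X → Prop) : cnt p = Nat.card {x // p x} := by
  classical
  rw [cnt_eq, Nat.card_eq_fintype_card, Fintype.card_subtype]

theorem cnt_eq_ncard (p : X → Prop) : cnt p = Set.ncard {x | p x} := by
  rw [cnt_eq_natCard]; rfl

theorem cnt_congr {p q : X → Prop} (h : ∀ x, p x ↔ q x) : cnt p = cnt q := by
  have : p = q := funext fun x => propext (h x)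
  rw [this]

theorem cnt_equiv {p q : X → Prop} (e : X ≃ X) (h : ∀ x, p x ↔ q (e x)) : cnt p = cnt q := by
  rw [cnt_eq_natCard, cnt_eq_natCard]
  exact Nat.card_congr (e.subtypeEquiv h)

theorem cnt_smul {G : Type*} [Group G] [MulAction G X] {p q : X → Prop} (g : G)
    (h : ∀ x, p x ↔ q (g • x)) : cnt p = cnt q :=
  cnt_equiv (MulAction.toPerm g) h

theorem cnt_mono {p q : X → Prop} (h : ∀ x, p x → q x) : cnt p ≤ cnt q := by
  classical
  rw [cnt_eq, cnt_eq]
  exact Finset.card_le_card (fun x hx => by simpa using h x (by simpa using hx))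

theorem cnt_split (p q : X → Prop) :
    cnt p = cnt (fun x => p x ∧ q x) + cnt (fun x => p x ∧ ¬ q x) := by
  classical
  rw [cnt_eq, cnt_eq, cnt_eq, ← Finset.filter_filter, ← Finset.filter_filter,
    Finset.card_filter_add_card_filter_not]

theorem cnt_pos {p : X → Prop} : 0 < cnt p ↔ ∃ x, p x := by
  classical
  rw [cnt_eq, Finset.card_pos]
  constructor
  · rintro ⟨x, hx⟩; exact ⟨x, by simpa using hx⟩
  · rintro ⟨x, hx⟩; exact ⟨x, by simpa using hx⟩

theorem cnt_eq_zero {p : X → Prop} : cnt p = 0 ↔ ∀ x, ¬ p x := by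
  rw [← Nat.le_zero, ← not_lt, cnt_pos]; simp

theorem cnt_single (a : X) : cnt (fun x => x = a) = 1 := by
  classical
  rw [cnt_eq_ncard]
  exact Set.ncard_singleton a

theorem cnt_true : cnt (fun _ : X => True) = Fintype.card X := by
  classical
  rw [cnt_eq]; simp

end cnt

/-- a strongly regular graph, as a relation -/
structure SRG {X : Type*} [Fintype X] (adj : X → X → Prop) (k lam mu : ℕ) : Prop where
  symm : ∀ a b, adj a b → adj b a
  irrefl : ∀ a, ¬ adj a a
  deg : ∀ a, cnt (fun b => adj a b) = k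
  clam : ∀ a b, adj a b → cnt (fun x => adj a x ∧ adj b x) = lam
  cmu : ∀ a b, a ≠ b → ¬ adj a b → cnt (fun x => adj a x ∧ adj b x) = mu

/-- the group-theoretic situation -/
structure Pre (G X : Type*) [Group G] [MulAction G X] where
  adj : X → X → Prop
  K : X → Subgroup G
  ne : Nonempty X
  even : Even (Nat.card G)
  prim : IsPreprimitive G X
  symm : ∀ a b, adj a b → adj b a
  irrefl : ∀ a, ¬ adj a a
  smul_adj : ∀ (g : G) (a b : X), adj a b → adj (g • a) (g • b)
  trans_adj : ∀ a b a' b', adj a b → adj a' b' → ∃ g : G, g • a = a' ∧ g • b = b'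
  trans_non : ∀ a b a' b', a ≠ b → ¬ adj a b → a' ≠ b' → ¬ adj a' b' →
    ∃ g : G, g • a = a' ∧ g • b = b'
  ex_adj : ∀ a, ∃ b, adj a b
  ex_non : ∀ a, ∃ d, a ≠ d ∧ ¬ adj a d
  K_fix : ∀ (a : X) (x : G), x ∈ K a → x • a = a
  K_conj : ∀ (a : X) (x g : G), x ∈ K a → g * x * g⁻¹ ∈ K (g • a)
  K_trans : ∀ a b b', adj a b → adj a b' → ∃ x ∈ K a, x • b = b'
  K_free : ∀ (a b : X) (x : G), x ∈ K a → adj a b → x • b = b → x = 1
  out_fix : ∀ (a : X) (x : G), x • a = a → x ∉ K a → ∃ b, adj a b ∧ x • b = b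
  out_uniq : ∀ (a b b' : X) (x : G), x • a = a → x ≠ 1 → adj a b → adj a b' → x • b = b →
    x • b' = b' → b = b'
  cent : ∀ (a : X) (x y : G), x • a = a → x ∉ K a → y ∈ K a → x * y = y * x → y = 1
  K_nil : ∀ a, Group.IsNilpotent (K a)
  C_ne : ∀ a b, adj a b → ∃ x : G, x ≠ 1 ∧ x • a = a ∧ x • b = b

/-- the situation with its numerical parameters -/
structure Setup (G X : Type*) [Group G] [Fintype X] [MulAction G X] extends Pre G X where
  k : ℕ
  l : ℕ
  c : ℕ
  s : ℕ
  k1 : ℕ
  lam : ℕ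
  mu : ℕ
  srg : SRG adj k lam mu
  card_non : ∀ a, cnt (fun d => a ≠ d ∧ ¬ adj a d) = l
  card_K : ∀ a, Nat.card (K a) = k
  card_C : ∀ a b, adj a b → Nat.card ↥(stabilizer G a ⊓ stabilizer G b) = c
  card_S : ∀ a d, a ≠ d → ¬ adj a d → Nat.card ↥(stabilizer G a ⊓ stabilizer G d) = s
  card_K1 : ∀ a d, a ≠ d → ¬ adj a d → Nat.card ↥(K a ⊓ stabilizer G d) = k1

variable {G X : Type*} [Group G] [Fintype X] [MulAction G X]

/-- `p` is fixed by `K₁ = K a ⊓ G_d` -/
def Setup.Fx (S : Setup G X) (a d p : X) : Prop := ∀ y ∈ S.K a, y • d = d → y • p = p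

/-- `g` centralizes `K₁ = K a ⊓ G_d` -/
def Setup.Ce (S : Setup G X) (a d : X) (g : G) : Prop := ∀ y ∈ S.K a, y • d = d → g * y = y * g

/-- `z ∈ Ω₁(Z(K a))` for the prime two -/
def Setup.IsZ (S : Setup G X) (a : X) (z : G) : Prop :=
  z ∈ S.K a ∧ z * z = 1 ∧ ∀ y ∈ S.K a, z * y = y * z

/-- number of fixed points -/
noncomputable def al0 (X : Type*) [Fintype X] [MulAction G X] (g : G) : ℕ :=
  cnt (fun p : X => g • p = p)

/-- number of points moved to a neighbour -/
noncomputable def al1 (adj : X → X → Prop) (g : G) : ℕ := cnt (fun p : X => adj p (g • p))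

theorem Pre.adj_iff {G X : Type*} [Group G] [MulAction G X] (S : Pre G X) (g : G) (a b : X) :
    S.adj (g • a) (g • b) ↔ S.adj a b :=
  ⟨fun h => by simpa using S.smul_adj g⁻¹ _ _ h, S.smul_adj g a b⟩

theorem Pre.K_iff {G X : Type*} [Group G] [MulAction G X] (S : Pre G X) (g x : G) (a : X) :
    g * x * g⁻¹ ∈ S.K (g • a) ↔ x ∈ S.K a :=
  ⟨fun h => by simpa [mul_assoc] using S.K_conj _ _ g⁻¹ h, S.K_conj a x g⟩

theorem Pre.K_norm {G X : Type*} [Group G] [MulAction G X] (S : Pre G X) {g x : G} {a : X}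
    (hg : g • a = a) (hx : x ∈ S.K a) : g * x * g⁻¹ ∈ S.K a := by
  have := S.K_conj a x g hx
  rwa [hg] at this

theorem Pre.ne_of_adj {G X : Type*} [Group G] [MulAction G X] (S : Pre G X) {a b : X}
    (h : S.adj a b) : a ≠ b := fun e => S.irrefl a (by rw [← e] at h; exact h)

theorem al1_conj (S : Setup G X) (g z : G) : al1 S.adj (g * z * g⁻¹) = al1 S.adj z := by
  symm
  refine cnt_smul g (fun p => ?_)
  rw [mul_smul, mul_smul, inv_smul_smul, S.toPre.adj_iff]

theorem al0_conj (g z : G) : al0 X (g * z * g⁻¹) = al0 X z := by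
  symm
  refine cnt_smul g (fun p => ?_)
  rw [mul_smul, mul_smul, inv_smul_smul, smul_left_cancel_iff]

end CfsgLib.R3F
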